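import Cfsg.Agent.Lib.Fus.RootInvPartners
import Cfsg.Agent.Lib.Fus.RootInvolutions

/-!
# Root structure: isolated commuting members and deep pairs

`Wd D d w` says that `w` commutes with `d` and has no odd partner commuting with `d`; `Deep D d q` says that in
addition all squares `(q * w) ^ 2` lie in `E(d)`.
-/

set_option autoImplicit false
set_option linter.unusedSectionVars false

namespace Cfsg.Agent.Fus.RootStr

open RootInv

variable {G : Type*} [Group G] {D : Set G}

/-- The standing hypotheses. -/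
structure Ctx (D : Set G) : Prop where
  root : Cfsg.IsRootInvolutionSet D
  conn : Cfsg.IsConnectedSet (Cfsg.OddAdj D) D
  cls : ∀ d ∈ D, (Cfsg.sameCommutingSubgroup D d : Set G) = Cfsg.sameCommutingClass D d ∪ {1}

/-- `e ∈ E(d)`. -/
def InE (D : Set G) (d e : G) : Prop := e = 1 ∨ e ∈ Cfsg.sameCommutingClass D d

/-- An isolated member of the commuting members of `d`. -/
def Wd (D : Set G) (d w : G) : Prop :=
  w ∈ D ∧ w * d = d * w ∧ ∀ y, Cfsg.OddAdj D w y → y * d ≠ d * y

/-- A member of `W_d` whose squares with `W_d` lie in `E(d)`. -/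
def Deep (D : Set G) (d q : G) : Prop := Wd D d q ∧ ∀ w, Wd D d w → InE D d ((q * w) ^ 2)

/-- All multiples of `x` by `E(d)` are members. -/
def Full (D : Set G) (d x : G) : Prop := ∀ e, InE D d e → x * e ∈ D

/-! ### Squares of products of involutions -/

theorem sq_mul_swap (hD : Cfsg.IsRootInvolutionSet D) {a b : G} (ha : a ∈ D) (hb : b ∈ D)
    (h : ¬ Cfsg.OddAdj D a b) : (a * b) ^ 2 = (b * a) ^ 2 := by
  rcases trichotomy hD ha hb with e | e | e
  · rw [e]
  · exact absurd e h
  · exact (four_facts hD ha hb e rfl).2.1.symm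

theorem conj_eq (hD : Cfsg.IsRootInvolutionSet D) {a : G} (ha : a ∈ D) (b : G) :
    b * a * b = a * (a * b) ^ 2 := by
  rw [pow_two, show a * (a * b * (a * b)) = a * a * (b * a * b) by group, mul_self hD ha, one_mul]

theorem conj_eq' (hD : Cfsg.IsRootInvolutionSet D) {a b : G} (ha : a ∈ D) (hb : b ∈ D) (h : ¬ Cfsg.OddAdj D a b) :
    b * a * b = a * (b * a) ^ 2 := by
  rw [← sq_mul_swap hD ha hb h, conj_eq hD ha]

theorem four_of_ne (hD : Cfsg.IsRootInvolutionSet D) {a b : G} (ha : a ∈ D) (hb : b ∈ D)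
    (h : ¬ Cfsg.OddAdj D a b) (hne : a * b ≠ b * a) : orderOf (a * b) = 4 :=
  ((trichotomy hD ha hb).resolve_left hne).resolve_left h

theorem sq_ne_one (hD : Cfsg.IsRootInvolutionSet D) {a b : G} (ha : a ∈ D) (hb : b ∈ D)
    (h : orderOf (a * b) = 4) : (a * b) ^ 2 ≠ 1 := by
  intro e
  have := orderOf_dvd_of_pow_eq_one e
  rw [h] at this
  exact absurd this (by decide)

theorem commute_of_sq_eq_one (hD : Cfsg.IsRootInvolutionSet D) {a b : G} (ha : a ∈ D) (hb : b ∈ D)
    (h : (a * b) ^ 2 = 1) : a * b = b * a := by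
  have h1 : (a * b)⁻¹ = a * b := inv_eq_of_mul_eq_one_right (by rwa [← pow_two])
  rw [mul_inv_rev, inv_eq hD ha, inv_eq hD hb] at h1
  exact h1.symm

theorem conj_mem' (hD : Cfsg.IsRootInvolutionSet D) {a b : G} (ha : a ∈ D) (hb : b ∈ D) : b * a * b ∈ D := by
  have := hD.conj_mem a ha b
  rwa [inv_eq hD hb] at this

/-! ### Classes -/

theorem mem_class_iff {d e : G} :
    e ∈ Cfsg.sameCommutingClass D d ↔ e ∈ D ∧ Cfsg.commutingMembers D d = Cfsg.commutingMembers D e := Iff.rfl

theorem class_self {d : G} (hd : d ∈ D) : d ∈ Cfsg.sameCommutingClass D d := ⟨hd, rfl⟩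

theorem inE_self {d : G} (hd : d ∈ D) : InE D d d := Or.inr (class_self hd)

theorem class_symm {d e : G} (hd : d ∈ D) (he : e ∈ Cfsg.sameCommutingClass D d) :
    d ∈ Cfsg.sameCommutingClass D e := ⟨hd, he.2.symm⟩

theorem inE_congr {d d' x : G} (hd : d' ∈ Cfsg.sameCommutingClass D d) : InE D d' x ↔ InE D d x := by
  unfold InE Cfsg.sameCommutingClass
  simp only [Set.mem_setOf_eq, hd.2]

theorem class_commute {d e x : G} (he : e ∈ Cfsg.sameCommutingClass D d) (hx : x ∈ D) (hxd : x * d = d * x) :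
    x * e = e * x := by
  have : x ∈ Cfsg.commutingMembers D d := ⟨hx, hxd⟩
  rw [he.2] at this
  exact this.2

theorem inE_commute {d e x : G} (he : InE D d e) (hx : x ∈ D) (hxd : x * d = d * x) : x * e = e * x := by
  rcases he with rfl | he
  · rw [mul_one, one_mul]
  · exact class_commute he hx hxd

theorem inE_commute_self {d e : G} (hd : d ∈ D) (he : InE D d e) : d * e = e * d := inE_commute he hd rfl

theorem inE_sq (hD : Cfsg.IsRootInvolutionSet D) {d e : G} (he : InE D d e) : e * e = 1 := by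
  rcases he with rfl | he
  · rw [one_mul]
  · exact mul_self hD he.1

theorem commute_class {d e x : G} (he : e ∈ Cfsg.sameCommutingClass D d) (hx : x ∈ D) (hxe : x * e = e * x) :
    x * d = d * x := by
  have : x ∈ Cfsg.commutingMembers D e := ⟨hx, hxe⟩
  rw [← he.2] at this
  exact this.2

theorem mul_inE (h : Ctx D) {d x y : G} (hd : d ∈ D) (hx : InE D d x) (hy : InE D d y) : InE D d (x * y) := by
  have key : ∀ z, InE D d z ↔ z ∈ Cfsg.sameCommutingSubgroup D d := fun z => by
    rw [← SetLike.mem_coe, h.cls d hd]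
    exact or_comm
  rw [key] at *
  exact mul_mem hx hy

theorem conj_commute (g : G) {a b : G} : g * a * g⁻¹ * (g * b * g⁻¹) = g * b * g⁻¹ * (g * a * g⁻¹) ↔ a * b = b * a := by
  rw [show g * a * g⁻¹ * (g * b * g⁻¹) = g * (a * b) * g⁻¹ by group,
    show g * b * g⁻¹ * (g * a * g⁻¹) = g * (b * a) * g⁻¹ by group]
  exact ⟨fun e => mul_left_cancel (mul_right_cancel e), fun e => by rw [e]⟩

theorem conj_inv_mem (hD : Cfsg.IsRootInvolutionSet D) {a : G} (ha : a ∈ D) (g : G) : g⁻¹ * a * g ∈ D := by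
  simpa using hD.conj_mem a ha g⁻¹

theorem conj_class (hD : Cfsg.IsRootInvolutionSet D) (g : G) {d e : G} (he : e ∈ Cfsg.sameCommutingClass D d) :
    g * e * g⁻¹ ∈ Cfsg.sameCommutingClass D (g * d * g⁻¹) := by
  refine ⟨hD.conj_mem e he.1 g, Set.ext fun x => ?_⟩
  obtain ⟨x, rfl⟩ : ∃ x', x = g * x' * g⁻¹ := ⟨g⁻¹ * x * g, by group⟩
  have hx : g * x * g⁻¹ ∈ D ↔ x ∈ D := ⟨fun hm => by
    have := conj_inv_mem hD hm g
    rwa [show g⁻¹ * (g * x * g⁻¹) * g = x by group] at this, fun hm => hD.conj_mem x hm g⟩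
  have h0 := Set.ext_iff.1 he.2 x
  simp only [Cfsg.commutingMembers, Set.mem_setOf_eq, hx, conj_commute] at h0 ⊢
  exact h0

theorem conj_inE (hD : Cfsg.IsRootInvolutionSet D) (g : G) {d e : G} (he : InE D d e) :
    InE D (g * d * g⁻¹) (g * e * g⁻¹) := by
  rcases he with rfl | he
  · exact Or.inl (by group)
  · exact Or.inr (conj_class hD g he)

theorem ncard_class [Finite G] (h : Ctx D) {a b : G} (ha : a ∈ D) (hb : b ∈ D) :
    (Cfsg.sameCommutingClass D a).ncard = (Cfsg.sameCommutingClass D b).ncard := by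
  have key : ∀ {a b : G}, a ∈ D → b ∈ D →
      (Cfsg.sameCommutingClass D a).ncard ≤ (Cfsg.sameCommutingClass D b).ncard := by
    intro a b ha hb
    obtain ⟨g, hg⟩ := exists_conj_of_connected h.root h.conn ha hb
    refine Set.ncard_le_ncard_of_injOn (fun e => g * e * g⁻¹) (fun e he => ?_)
      (fun x _ y _ e => mul_left_cancel (mul_right_cancel e)) (Set.toFinite _)
    have := conj_class h.root g he
    rwa [hg] at this
  exact (key ha hb).antisymm (key hb ha)

/-- If no class member of `z` commutes with `x`, the squares cover the class of `d`. -/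
theorem exists_sq_eq [Finite G] (h : Ctx D) {d x z : G} (hd : d ∈ D) (hx : x ∈ D) (hz : z ∈ D)
    (hxz : x * z ≠ z * x) (hmaps : ∀ f ∈ Cfsg.sameCommutingClass D z, InE D d ((x * f) ^ 2))
    {e : G} (he : InE D d e) : ∃ f, InE D z f ∧ (x * f) ^ 2 = e := by
  rcases he with rfl | he
  · exact ⟨1, Or.inl rfl, by rw [mul_one, pow_two, mul_self h.root hx]⟩
  have hnc : ∀ f ∈ Cfsg.sameCommutingClass D z, x * f ≠ f * x := fun f hf e' => hxz (commute_class hf hx e')
  have hmap : Set.MapsTo (fun f => (x * f) ^ 2) (Cfsg.sameCommutingClass D z) (Cfsg.sameCommutingClass D d) :=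
    fun f hf => (hmaps f hf).resolve_left fun e' => hnc f hf (commute_of_sq_eq_one h.root hx hf.1 e')
  have hinj : Set.InjOn (fun f => (x * f) ^ 2) (Cfsg.sameCommutingClass D z) := by
    intro f hf f' hf' e'
    by_contra hne
    have hc : f * x * f = f' * x * f' := by
      rw [conj_eq h.root hx, conj_eq h.root hx, show (x * f) ^ 2 = (x * f') ^ 2 from e']
    have hff : InE D z (f' * f) := mul_inE h hz (Or.inr hf') (Or.inr hf)
    rcases hff with e1 | e1
    · exact hne (inv_eq h.root hf'.1 ▸ (inv_eq_of_mul_eq_one_right e1).symm : f = f')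
    · refine hnc _ e1 ?_
      calc x * (f' * f) = f' * f' * x * f' * f := by rw [mul_self h.root hf'.1, one_mul, mul_assoc]
        _ = f' * (f' * x * f') * f := by group
        _ = f' * f * x * (f * f) := by rw [← hc]; group
        _ = f' * f * x := by rw [mul_self h.root hf.1, mul_one]
  have himg := Set.eq_of_subset_of_ncard_le hmap.image_subset
    (by rw [Set.ncard_image_of_injOn hinj]; exact (ncard_class h hd hz).le) (Set.toFinite _)
  obtain ⟨f, hf, hfe⟩ := himg.ge he
  exact ⟨f, Or.inr hf, hfe⟩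

/-! ### Isolated members -/

variable (hD : Cfsg.IsRootInvolutionSet D)

theorem Wd.not_odd {d w x : G} (hw : Wd D d w) (hxd : x * d = d * x) : ¬ Cfsg.OddAdj D w x :=
  fun e => hw.2.2 x e hxd

theorem Wd.not_odd' {d w x : G} (hw : Wd D d w) (hxd : x * d = d * x) : ¬ Cfsg.OddAdj D x w :=
  fun e => hw.2.2 x (oddAdj_symm e) hxd

theorem Wd.pair_not_odd {d u v : G} (hu : Wd D d u) (hv : Wd D d v) : ¬ Cfsg.OddAdj D u v :=
  hu.not_odd hv.2.1

include hD

/-- A commuting member with product in `D` is isolated. -/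
theorem wd_of_product {d u : G} (hd : d ∈ D) (hu : u ∈ D) (hud : u * d = d * u) (hmem : u * d ∈ D) : Wd D d u :=
  ⟨hu, hud, fun y hy hyd => not_mem_mul_of_commute hD hd hyd.symm hud hy (hud ▸ hmem)⟩

theorem Wd.conj (g : G) {d w : G} (hw : Wd D d w) : Wd D (g * d * g⁻¹) (g * w * g⁻¹) := by
  refine ⟨hD.conj_mem w hw.1 g, (conj_commute g).2 hw.2.1, fun y hy hyd => ?_⟩
  obtain ⟨y, rfl⟩ : ∃ y', y = g * y' * g⁻¹ := ⟨g⁻¹ * y * g, by group⟩
  have := oddAdj_conj hD hy g⁻¹
  simp only [inv_inv, show ∀ a : G, g⁻¹ * (g * a * g⁻¹) * g = a from fun a => by group] at this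
  exact hw.2.2 y this ((conj_commute g).1 hyd)

theorem Wd.conj_self {d w x : G} (hw : Wd D d w) (hx : x ∈ D) (hxd : x * d = d * x) : Wd D d (x * w * x) := by
  have := hw.conj hD x
  rwa [inv_eq hD hx, hxd, mul_assoc d x x, mul_self hD hx, mul_one] at this

/-- The square of a product of two isolated members is isolated. -/
theorem Wd.sq {d u v : G} (hu : Wd D d u) (hv : Wd D d v) : (u * v) ^ 2 = 1 ∨ Wd D d ((u * v) ^ 2) := by
  rcases trichotomy hD hu.1 hv.1 with e | e | e
  · exact Or.inl (sq_of_commute hD hu.1 hv.1 e)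
  · exact absurd e (hu.pair_not_odd hv)
  · obtain ⟨hqD, -, -, hqu, -, -, e1, hmem⟩ := four_facts hD hu.1 hv.1 e rfl
    have hqd : (u * v) ^ 2 * d = d * (u * v) ^ 2 :=
      ((Commute.mul_left (show Commute u d from hu.2.1) (show Commute v d from hv.2.1)).pow_left 2).eq
    refine Or.inr ⟨hqD, hqd, fun y hy hyd => ?_⟩
    rcases oddAdj_partner_or_mul hD hu.1 hqu (hqu ▸ hmem) hy with e' | e'
    · exact hu.not_odd hyd (oddAdj_symm e')
    · rw [hqu, e1] at e'
      exact (hu.conj_self hD hv.1 hv.2.1).not_odd hyd (oddAdj_symm e')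

omit hD in
theorem wd_self {d : G} (hd : d ∈ D) (hD : Cfsg.IsRootInvolutionSet D) : Wd D d d :=
  ⟨hd, rfl, fun _ hy hyd => not_commute_of_oddAdj hD hy hyd.symm⟩

variable [Finite G]

theorem Wd.congr_left {d d' w : G} (hd' : d' ∈ Cfsg.sameCommutingClass D d) (hw : Wd D d w) : Wd D d' w :=
  ⟨hw.1, class_commute hd' hw.1 hw.2.1, fun y hy hyd => hw.2.2 y hy (commute_class hd' hy.2.1 hyd)⟩

theorem Wd.congr_right {d w f : G} (hd : d ∈ D) (hf : f ∈ Cfsg.sameCommutingClass D w) (hw : Wd D d w) :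
    Wd D d f := by
  refine ⟨hf.1, (class_commute hf hd hw.2.1.symm).symm, fun y hy hyd => ?_⟩
  have hA := oddPartners_eq hD hw.1 hf.1 hf.2
  have := (mem_oddPartners hf.1).2 hy
  rw [← hA] at this
  exact hw.2.2 y ((mem_oddPartners hw.1).1 this) hyd

theorem wd_of_class {d e : G} (hd : d ∈ D) (he : e ∈ Cfsg.sameCommutingClass D d) : Wd D d e :=
  (wd_self hd hD).congr_right hD hd he

/-- An isolated member commuting with all product partners lies in the class. -/
theorem mem_class_of_central (hc : Cfsg.IsConnectedSet (Cfsg.OddAdj D) D) {d w : G} (hd : d ∈ D) (hw : Wd D d w)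
    (hcen : ∀ x ∈ Cfsg.productPartners D d, x * w = w * x) : w ∈ Cfsg.sameCommutingClass D d := by
  have hsub : Cfsg.oddPartners D w ⊆ Cfsg.oddPartners D d := by
    intro y hy
    have hwy := (mem_oddPartners hw.1).1 hy
    refine (mem_oddPartners hd).2 ?_
    rcases trichotomy hD hd hwy.2.1 with e | e | e
    · exact absurd e.symm (hw.2.2 y hwy)
    · exact e
    · exfalso
      obtain ⟨hcD, -, -, hcd, hcy, hcyD, -, hmem⟩ := four_facts hD hd hwy.2.1 e rfl
      have hne : (d * y) ^ 2 ≠ d := fun e' => by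
        rw [e'] at hcy
        exact not_commute_of_four hD hd hwy.2.1 e hcy
      exact not_mem_mul_of_commute hD hcD (hcen _ ⟨⟨hcD, hcd, hne⟩, hcd ▸ hmem⟩) hcy.symm
        (oddAdj_symm hwy) hcyD
  exact ⟨hw.1, (commutingMembers_eq hD hc hw.1 hd (eq_of_oddPartners_subset hD hc hw.1 hd hsub)).symm⟩

end Cfsg.Agent.Fus.RootStr
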