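import Cfsg.Agent.Lib.Fus.RootStructure.Propagate

/-!
# Root structure: the isolated commuting members generate a group of class two
-/

set_option autoImplicit false
set_option linter.unusedSectionVars false

namespace Cfsg.Agent.Fus.RootStr

open RootInv

variable {G : Type*} [Group G] {D : Set G} [Finite G]

/-- The group generated by the isolated commuting members. -/
def NW (D : Set G) (d : G) : Subgroup G := Subgroup.closure {w | Wd D d w}

theorem mem_NW {d w : G} (hw : Wd D d w) : w ∈ NW D d := Subgroup.subset_closure hw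

/-- `NW D d` is a `2`-group meeting `D` in `W_d`. -/
theorem isPGroup_NW (hD : Cfsg.IsRootInvolutionSet D) (d : G) :
    IsPGroup 2 ↥(NW D d) ∧ ∀ w ∈ D, w ∈ NW D d → Wd D d w := by
  obtain ⟨H, hH⟩ : ∃ H : Subgroup G, H = Subgroup.closure (Cfsg.commutingMembers D d) := ⟨_, rfl⟩
  obtain ⟨D', hD'⟩ : ∃ D' : Set ↥H, D' = {k : ↥H | (k : G) ∈ Cfsg.commutingMembers D d} := ⟨_, rfl⟩
  have hcd : ∀ k : ↥H, (k : G) * d = d * k := by
    intro k
    have hle : H ≤ Subgroup.centralizer ({d} : Set G) := by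
      rw [hH, Subgroup.closure_le]
      exact fun x hx => Subgroup.mem_centralizer_singleton_iff.2 hx.2
    exact Subgroup.mem_centralizer_singleton_iff.1 (hle k.2)
  have hord : ∀ k : ↥H, orderOf k = orderOf (k : G) := fun k => (Subgroup.orderOf_coe k).symm
  have hroot : Cfsg.IsRootInvolutionSet D' := by
    subst hD'
    refine ⟨fun k hk => (hord k).trans (hD.orderOf_eq _ hk.1), ?_, fun k hk g => ?_, fun k hk l hl => ?_⟩
    · subst hH
      exact Subgroup.closure_closure_coe_preimage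
    · refine ⟨hD.conj_mem k hk.1 g, ?_⟩
      exact (Commute.mul_left (Commute.mul_left (hcd g) hk.2) (Commute.inv_left (hcd g))).eq
    · rcases hD.pair k hk.1 l hl.1 with e | e | ⟨e, e'⟩
      · exact Or.inl (Subtype.ext e)
      · refine Or.inr (Or.inl ?_)
        rwa [hord, Subgroup.coe_mul]
      · refine Or.inr (Or.inr ⟨?_, e', hcd _⟩)
        rwa [hord, Subgroup.coe_mul]
  have hset : {w | Wd D d w} = H.subtype '' {k | Cfsg.IsIsolatedElem (Cfsg.OddAdj D') D' k} := by
    subst hD'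
    ext w
    constructor
    · intro hw
      have hwH : w ∈ H := hH ▸ Subgroup.subset_closure ⟨hw.1, hw.2.1⟩
      refine ⟨⟨w, hwH⟩, ⟨⟨hw.1, hw.2.1⟩, fun b => ⟨fun hb => ?_, fun hb => ?_⟩⟩, rfl⟩
      · refine hw.2.2 (b : G) ⟨hw.1, hb.2.1.1, fun e => hb.2.2.1 (Subtype.ext e), ?_⟩ hb.2.1.2
        simpa [hord] using hb.2.2.2
      · refine hw.2.2 (b : G) ⟨hw.1, hb.1.1, fun e => hb.2.2.1 (Subtype.ext e.symm), ?_⟩ hb.1.2
        rw [orderOf_mul_swap]
        simpa [hord] using hb.2.2.2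
    · rintro ⟨k, hk, rfl⟩
      refine ⟨hk.1.1, hk.1.2, fun y hy hyd => ?_⟩
      have hyH : y ∈ H := hH ▸ Subgroup.subset_closure ⟨hy.2.1, hyd⟩
      refine (hk.2 ⟨y, hyH⟩).1 ⟨hk.1, ⟨hy.2.1, hyd⟩, fun e => hy.2.2.1 (congrArg Subtype.val e), ?_⟩
      rw [hord, Subgroup.coe_mul]
      exact hy.2.2.2
  have hN : NW D d = (Subgroup.closure {k | Cfsg.IsIsolatedElem (Cfsg.OddAdj D') D' k}).map H.subtype := by
    rw [MonoidHom.map_closure, ← hset]; rfl
  refine ⟨?_, fun w hwD hwN => ?_⟩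
  · rw [hN]
    exact (isPGroup_closure_isolated hroot).map _
  · rw [hN] at hwN
    obtain ⟨k, hk, rfl⟩ := hwN
    have hkD' : k ∈ D' := by rw [hD']; exact ⟨hwD, hcd k⟩
    have := (closure_isolated_inter hroot).le ⟨hk, hkD'⟩
    exact (hset.ge ⟨k, this, rfl⟩ :)

/-- A deep member commutes with squares of products in `W_d`. -/
theorem Deep.commute_sq (h : Ctx D) {d q a b : G} (hd : d ∈ D) (hq : Deep D d q) (ha : Wd D d a) (hb : Wd D d b) :
    Commute ((a * b) ^ 2) q := by
  have hD := h.root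
  obtain ⟨c1, hc1⟩ : ∃ c, c = (q * a) ^ 2 := ⟨_, rfl⟩
  obtain ⟨c2, hc2⟩ : ∃ c, c = (q * b) ^ 2 := ⟨_, rfl⟩
  have hE1 : InE D d c1 := hc1 ▸ hq.2 a ha
  have hE2 : InE D d c2 := hc2 ▸ hq.2 b hb
  have e1 : a * q * a = q * c1 := hc1 ▸ conj_eq hD hq.1.1 a
  have e2 : b * q * b = q * c2 := hc2 ▸ conj_eq hD hq.1.1 b
  have haa := mul_self hD ha.1
  have hbb := mul_self hD hb.1
  have ec : a * c2 * a = c2 := by
    rw [inE_commute hE2 ha.1 ha.2.1, mul_assoc, haa, mul_one]
  have ec' : b * c1 * b = c1 := by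
    rw [inE_commute hE1 hb.1 hb.2.1, mul_assoc, hbb, mul_one]
  have ec2 : b * c2 * b = c2 := by
    rw [inE_commute hE2 hb.1 hb.2.1, mul_assoc, hbb, mul_one]
  have k : a * b * q * (b * a) = q * (c1 * c2) := by
    calc a * b * q * (b * a) = a * (b * q * b) * a := by group
      _ = a * q * (a * a) * c2 * a := by rw [e2, haa]; group
      _ = (a * q * a) * (a * c2 * a) := by group
      _ = q * (c1 * c2) := by rw [e1, ec, mul_assoc]
  have hc12 : (c1 * c2) * (c1 * c2) = 1 := inE_sq hD (mul_inE h hd hE1 hE2)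
  have ea : a * c1 * a = c1 := by
    rw [inE_commute hE1 ha.1 ha.2.1, mul_assoc, haa, mul_one]
  have key : (a * b) ^ 2 * q * (b * a) ^ 2 = q := by
    calc (a * b) ^ 2 * q * (b * a) ^ 2 = a * b * (a * b * q * (b * a)) * (b * a) := by
          rw [pow_two, pow_two]; group
      _ = a * b * q * ((b * b) * c1 * ((b * b) * c2 * (b * a))) := by rw [k, hbb]; group
      _ = a * b * q * (b * ((b * c1 * b) * (b * c2 * b)) * a) := by group
      _ = a * b * q * (b * a) * (a * (c1 * c2) * a) := by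
          rw [ec', ec2, show a * b * q * (b * a) * (a * (c1 * c2) * a) = a * b * q * b * (a * a) * (c1 * c2) * a by group, haa]
          group
      _ = q * (c1 * c2) * (a * c1 * (a * a) * c2 * a) := by rw [k, haa]; group
      _ = q * (c1 * c2) * ((a * c1 * a) * (a * c2 * a)) := by group
      _ = q := by rw [ea, ec, mul_assoc, hc12, mul_one]
  show (a * b) ^ 2 * q = q * (a * b) ^ 2
  have hinv : (b * a) ^ 2 * (a * b) ^ 2 = 1 := by
    rw [show b * a = (a * b)⁻¹ by rw [mul_inv_rev, inv_eq hD ha.1, inv_eq hD hb.1], inv_pow, inv_mul_cancel]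
  calc (a * b) ^ 2 * q = (a * b) ^ 2 * q * ((b * a) ^ 2 * (a * b) ^ 2) := by rw [hinv, mul_one]
    _ = (a * b) ^ 2 * q * (b * a) ^ 2 * (a * b) ^ 2 := by group
    _ = q * (a * b) ^ 2 := by rw [key]

/-- Elements of `E(d)` are central in `NW D d`. -/
theorem commute_NW {d e g : G} (he : InE D d e) (hg : g ∈ NW D d) : g * e = e * g := by
  have hle : NW D d ≤ Subgroup.centralizer ({e} : Set G) := by
    rw [NW, Subgroup.closure_le]
    exact fun w hw => Subgroup.mem_centralizer_singleton_iff.2 (inE_commute he hw.1 hw.2.1)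
  exact Subgroup.mem_centralizer_singleton_iff.1 (hle hg)

/-- A member with a non-commuting deep member has all its multiples by `E(d)` in the class. -/
theorem full_of_noncommute (h : Ctx D) {d x δ : G} (hd : d ∈ D) (hx : Wd D d x) (hδ : Deep D d δ)
    (hne : x * δ ≠ δ * x) : Full D d x := by
  intro e he
  have hδE : δ ∉ Cfsg.sameCommutingClass D d := fun e' => hne (class_commute e' hx.1 hx.2.1)
  obtain ⟨f, hf, hfe⟩ := exists_sq_eq h hd hx.1 hδ.1.1 hne (fun f hf => by
    have hfd := (hδ.congr_right h hd hδE hf).1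
    rw [sq_mul_swap h.root hx.1 hfd.1.1 (hx.pair_not_odd hfd.1)]
    exact hfd.2 x hx) he
  rw [← hfe]
  rcases hf with rfl | hf
  · rw [mul_one, pow_two, mul_self h.root hx.1, mul_one]; exact hx.1
  · rw [← conj_eq h.root hx.1]; exact conj_mem' h.root hx.1 hf.1

/-- Conjugates by members commuting with `d` keep all multiples by `E(d)` in the class. -/
theorem Full.conj (hD : Cfsg.IsRootInvolutionSet D) {d x w : G} (hx : Full D d x) (hw : w ∈ D)
    (hwd : w * d = d * w) : Full D d (w * x * w) := by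
  intro e he
  have := conj_mem' hD (hx e he) hw
  rwa [show w * (x * e) * w = w * x * w * e by
    rw [mul_assoc (w * x) w e, inE_commute he hw hwd]; group] at this

/-- A commutator of two isolated members, deep and outside the class, makes one of its factors deep. -/
theorem deep_of_sq (h : Ctx D) {d w u : G} (hd : d ∈ D) (hw : Wd D d w) (hu : Wd D d u)
    (hdeep : ∀ x, Wd D d x → (w * x) ^ 2 = 1 ∨ Deep D d ((w * x) ^ 2))
    (hqE : ¬ InE D d ((w * u) ^ 2)) : Deep D d w := by
  have hD := h.root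
  obtain ⟨q, hq⟩ : ∃ q, q = (w * u) ^ 2 := ⟨_, rfl⟩
  rw [← hq] at hqE
  have hqd : Deep D d q := hq ▸ (hdeep u hu).resolve_left fun e => hqE (Or.inl (hq.trans e))
  have hqE' : q ∉ Cfsg.sameCommutingClass D d := fun e => hqE (Or.inr e)
  have h4 : orderOf (w * u) = 4 := by
    refine four_of_ne hD hw.1 hu.1 (hw.pair_not_odd hu) fun e => hqE (Or.inl ?_)
    rw [hq, sq_of_commute hD hw.1 hu.1 e]
  obtain ⟨-, -, -, hqw, hqu, -, hwq, -⟩ := four_facts hD hw.1 hu.1 h4 hq.symm
  have huq : u * q = w * u * w := by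
    have e1 := conj_eq' hD hu.1 hw.1 (hu.pair_not_odd hw)
    rw [← hq] at e1
    exact e1.symm
  by_cases hfu : Full D d u
  · have := hqd.propagate h hd hqE' hu.1 hu.2.1 hqu.symm hfu (huq ▸ hfu.conj hD hw.1 hw.2.1)
    exact absurd (hq ▸ (sq_mul_swap hD hu.1 hw.1 (hu.pair_not_odd hw)) ▸ this.2 w hw) hqE
  suffices hfw : Full D d w from
    hqd.propagate h hd hqE' hw.1 hw.2.1 hqw.symm hfw (hwq ▸ hfw.conj hD hu.1 hu.2.1)
  intro e he
  obtain ⟨f, hf, hfe, -⟩ := hqd.exists_mover' h hd hqE' he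
  rcases hf with rfl | hf
  · rw [← hfe, mul_one q, pow_two, mul_self hD hqd.1.1, mul_one]; exact hw.1
  obtain ⟨δ, hδ⟩ : ∃ δ, δ = (w * f) ^ 2 := ⟨_, rfl⟩
  obtain ⟨u₁, hu₁⟩ : ∃ u₁, u₁ = (u * f) ^ 2 := ⟨_, rfl⟩
  have hδD : δ = 1 ∨ Deep D d δ := hδ ▸ hdeep f hf
  have hδu : Commute u δ := by
    rcases hδD with e1 | e1
    · rw [e1]; exact Commute.one_right _
    · by_contra hne
      exact hfu (full_of_noncommute h hd hu e1 hne)
  have hu₁' : u₁ = 1 ∨ Wd D d u₁ := hu₁ ▸ hu.sq hD hf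
  have hqδ : Commute q δ := by
    rcases hδD with e1 | e1
    · rw [e1]; exact Commute.one_right _
    · rw [hq]; exact e1.commute_sq h hd hw hu
  have hδu₁ : Commute u₁ δ := by
    rcases hδD with e1 | e1
    · rw [e1]; exact Commute.one_right _
    · rw [hu₁]; exact e1.commute_sq h hd hu hf
  have hu₁u₁ : u₁ * u₁ = 1 := hu₁'.elim (fun e1 => by rw [e1, one_mul]) fun hw' => mul_self hD hw'.1
  obtain ⟨η, hη⟩ : ∃ η, η = (w * u₁) ^ 2 := ⟨_, rfl⟩
  have hu₁w : u₁ * w * u₁ = w * η := hη ▸ conj_eq hD hw.1 u₁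
  have hff := mul_self hD hf.1
  have huu := mul_self hD hu.1
  have hfw : f * w * f = w * δ := hδ ▸ conj_eq hD hw.1 f
  have hfuf : f * u * f = u * u₁ := hu₁ ▸ conj_eq hD hu.1 f
  have hfq : f * q * f = q * e := hfe ▸ conj_eq hD hqd.1.1 f
  have huw : u * w * u = w * q := hq ▸ conj_eq hD hw.1 u
  have huu₁ : u₁ * u = u * u₁ := by
    rcases hu₁' with e1 | _
    · rw [e1, one_mul, mul_one]
    · rcases trichotomy hD hu.1 hf.1 with e2 | e2 | e2
      · rw [hu₁, sq_of_commute hD hu.1 hf.1 e2, one_mul, mul_one]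
      · exact absurd e2 (hu.pair_not_odd hf)
      · exact (four_facts hD hu.1 hf.1 e2 hu₁.symm).2.2.2.1
  have hηw : Wd D d η ∨ η = 1 := by
    rcases hu₁' with e1 | e1
    · exact Or.inr (by rw [hη, e1, mul_one, pow_two, mul_self hD hw.1])
    · exact (hη ▸ hw.sq hD e1).symm
  have hδη : Commute η δ := by
    rcases hu₁' with e1 | e1
    · rw [hη, e1, mul_one, pow_two, mul_self hD hw.1]; exact Commute.one_left _
    · rcases hδD with e2 | e2
      · rw [e2]; exact Commute.one_right _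
      · rw [hη]; exact e2.commute_sq h hd hw e1
  obtain ⟨c, hc, hcη⟩ : ∃ c, InE D d c ∧ u * η * u = η * c := by
    rcases hηw with e1 | e1
    · refine ⟨(η * u) ^ 2, ?_, conj_eq hD e1.1 u⟩
      have hηd : η = 1 ∨ Deep D d η := by
        rcases hu₁' with e2 | e2
        · exact Or.inl (by rw [hη, e2, mul_one, pow_two, mul_self hD hw.1])
        · exact hη ▸ hdeep _ e2
      exact hηd.elim (fun e2 => absurd e2 (ne_one hD e1.1)) fun e2 => e2.2 u hu
    · exact ⟨1, Or.inl rfl, by rw [e1, mul_one, huu, mul_one]⟩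
  have hkey : η * c = e := by
    have h1 : u * u₁ * (w * δ) * (u * u₁) = w * δ * (q * e) := by
      calc u * u₁ * (w * δ) * (u * u₁) = (f * u * f) * (f * w * f) * (f * u * f) := by rw [hfw, hfuf]
        _ = f * u * (f * f) * w * (f * f) * u * f := by group
        _ = f * (u * w * u) * f := by rw [hff]; group
        _ = f * w * (f * f) * q * f := by rw [huw, hff]; group
        _ = (f * w * f) * (f * q * f) := by group
        _ = _ := by rw [hfw, hfq]
    have h2 : u * u₁ * (w * δ) * (u * u₁) = w * δ * (q * (η * c)) := by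
      calc u * u₁ * (w * δ) * (u * u₁) = u * u₁ * w * δ * (u₁ * u) := by rw [huu₁]; group
        _ = u * (u₁ * w * (δ * u₁)) * u := by group
        _ = u * (u₁ * w * u₁) * (δ * u) := by rw [← hδu₁.eq]; group
        _ = u * (w * η) * (u * δ) := by rw [hu₁w, ← hδu.eq]
        _ = u * w * (u * u) * η * u * δ := by rw [huu]; group
        _ = (u * w * u) * ((u * η * u) * δ) := by group
        _ = w * q * (η * c * δ) := by rw [huw, hcη]
        _ = w * (q * (δ * (η * c))) := by
            rw [(hδη.mul_left (show Commute c δ from ?_)).eq]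
            · group
            · rcases hδD with e1 | e1
              · rw [e1]; exact Commute.one_right _
              · exact (inE_commute hc e1.1.1 e1.1.2.1).symm
        _ = w * δ * (q * (η * c)) := by rw [← mul_assoc q δ, hqδ.eq]; group
    exact mul_left_cancel (mul_left_cancel (h2.symm.trans h1))
  have hηE : InE D d η := by
    have : η = e * c := by rw [← hkey, mul_assoc, inE_sq hD hc, mul_one]
    rw [this]; exact mul_inE h hd he hc
  have hc1 : c = 1 := by
    have : u * η * u = η := by rw [inE_commute hηE hu.1 hu.2.1, mul_assoc, huu, mul_one]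
    rw [hcη] at this
    exact mul_eq_left.1 this
  rw [hc1, mul_one] at hkey
  rw [← hkey, ← hu₁w]
  rcases hu₁' with e1 | e1
  · rw [e1, one_mul, mul_one]; exact hw.1
  · exact conj_mem' hD hw.1 e1.1

/-- Every isolated member is deep. -/
theorem all_deep (h : Ctx D) {d : G} (hd : d ∈ D) {w : G} (hw : Wd D d w) : Deep D d w := by
  have hD := h.root
  haveI : Fact (Nat.Prime 2) := ⟨Nat.prime_two⟩
  obtain ⟨hp, -⟩ := isPGroup_NW hD d
  have hnil : Group.IsNilpotent ↥(NW D d) := hp.isNilpotent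
  obtain ⟨n, hn⟩ := hnil.nilpotent'
  suffices key : ∀ i, ∀ k : ↥(NW D d), Wd D d (k : G) → k ∈ Subgroup.upperCentralSeries ↥(NW D d) i →
      Deep D d (k : G) from key n ⟨w, mem_NW hw⟩ hw (hn ▸ Subgroup.mem_top _)
  intro i
  induction i with
  | zero =>
    intro k hk hk1
    rw [Subgroup.upperCentralSeries_zero, Subgroup.mem_bot] at hk1
    exact absurd (by rw [hk1]; rfl) (ne_one hD hk.1)
  | succ i ih =>
    intro k hk hki
    by_contra hnd
    have hsq : ∀ x, Wd D d x → ((k : G) * x) ^ 2 = 1 ∨ Deep D d (((k : G) * x) ^ 2) := fun x hx => by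
      refine (hk.sq hD hx).imp id fun hW => ih ⟨((k : G) * x) ^ 2, mem_NW hW⟩ hW ?_
      have := Subgroup.mem_upperCentralSeries_succ_iff.1 hki ⟨x, mem_NW hx⟩
      convert this using 1
      refine Subtype.ext ?_
      show ((k : G) * x) ^ 2 = (k : G) * x * (k : G)⁻¹ * x⁻¹
      rw [inv_eq hD hk.1, inv_eq hD hx.1, pow_two]
      group
    obtain ⟨x, hx, hxE⟩ : ∃ x, Wd D d x ∧ ¬ InE D d (((k : G) * x) ^ 2) := by
      by_contra! hcon
      exact hnd ⟨hk, hcon⟩
    exact hnd (deep_of_sq h hd hk hx hsq hxE)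

end Cfsg.Agent.Fus.RootStr
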