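import Cfsg.Agent.Lib.Fus.RootStructure.Basic

/-!
# Root structure: deep pairs are symmetric

The two movers of a deep pair generate a group interchanging its members.
-/

set_option autoImplicit false
set_option linter.unusedSectionVars false

namespace Cfsg.Agent.Fus.RootStr

open RootInv

variable {G : Type*} [Group G] {D : Set G}

theorem Deep.conj (hD : Cfsg.IsRootInvolutionSet D) (g : G) {d q : G} (h : Deep D d q) :
    Deep D (g * d * g⁻¹) (g * q * g⁻¹) := by
  refine ⟨h.1.conj hD g, fun w hw => ?_⟩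
  have h1 := hw.conj hD g⁻¹
  simp only [inv_inv, show ∀ a : G, g⁻¹ * (g * a * g⁻¹) * g = a from fun a => by group] at h1
  have h2 := conj_inE hD g (h.2 _ h1)
  rwa [← conj_pow, show g * (q * (g⁻¹ * w * g)) * g⁻¹ = g * q * g⁻¹ * w by group] at h2

/-- A triangle of an edge with product of order three. -/
theorem triangle (hD : Cfsg.IsRootInvolutionSet D) {d q y : G} (hd : d ∈ D) (hq : q ∈ D) (hy : y ∈ D)
    (hqd : q * d = d * q) (hqdD : q * d ∈ D) (h3 : orderOf (d * y) = 3) (hqy : orderOf (q * y) = 4) :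
    Cfsg.OddAdj D d y ∧ orderOf (d * (q * y) ^ 2) = 4 ∧ (d * (q * y) ^ 2) ^ 2 = q ∧
      d * y * q * (d * y)⁻¹ = (q * y) ^ 2 ∧ d * y * d * (d * y)⁻¹ = y := by
  have hne : d ≠ y := fun e => by rw [e, mul_self hD hy, orderOf_one] at h3; omega
  have hdy : Cfsg.OddAdj D d y := ⟨hd, hy, hne, by rw [h3]; decide⟩
  have hdd := mul_self hD hd
  have hyy := mul_self hD hy
  have hyd : y * d * y = d * y * d := by
    have h := pow_orderOf_eq_one (d * y)
    rw [h3, pow_three] at h
    have h' : d * y * d * (y * d * y) = 1 := by rw [← h]; group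
    have h2 := inv_eq_of_mul_eq_one_right h'
    rw [mul_inv_rev, mul_inv_rev, inv_eq hD hd, inv_eq hD hy] at h2
    rw [← h2]; group
  obtain ⟨s, hs⟩ : ∃ s, s = (q * y) ^ 2 := ⟨_, rfl⟩
  rw [← hs]
  obtain ⟨hsD, -, hs3, hsq, hsy, hsyD, -, -⟩ := four_facts hD hq hy hqy hs.symm
  obtain ⟨p, hp⟩ : ∃ p, p = y * q * y := ⟨_, rfl⟩
  obtain ⟨x, hx⟩ : ∃ x, x = d * p * d := ⟨_, rfl⟩
  rw [← hp] at hs3
  have hsd : orderOf (s * d) = 4 := descent_step hD hq hqd (oddAdj_symm hdy) hqy hs.symm
  obtain ⟨r, hr⟩ : ∃ r, r = (s * d) ^ 2 := ⟨_, rfl⟩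
  obtain ⟨hrD, hr2, hr3, hrs, hrd, hrdD, -, -⟩ := four_facts hD hsD hd hsd hr.symm
  have hry : orderOf (r * y) = 4 := descent_step hD hsD hsy hdy hsd hr.symm
  have hdqd : d * q * d = q := by rw [← hqd, mul_assoc, hdd, mul_one]
  have hqp : p * q = q * p := by
    rw [← hs3]
    calc p * q = q * q * (p * q) := by rw [mul_self hD hq, one_mul]
      _ = q * (s * q) := by rw [hs3]; group
      _ = q * (q * s) := by rw [hsq]
      _ = s := by rw [← mul_assoc, mul_self hD hq, one_mul]
  have hqx : x * q = q * x := by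
    calc x * q = d * p * d * (d * q * d) := by rw [hx, hdqd]
      _ = d * (p * (d * d) * q) * d := by group
      _ = d * (q * p) * d := by rw [hdd, mul_one, hqp]
      _ = d * q * d * (d * p * d) := by
          rw [show d * q * d * (d * p * d) = d * q * (d * d) * p * d by group, hdd, mul_one]; group
      _ = q * x := by rw [hdqd, hx]
  have hyxy : y * x * y = x := by
    calc y * x * y = y * d * y * q * (y * d * y) := by rw [hx, hp]; group
      _ = d * y * (d * q * d) * y * d := by rw [hyd]; group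
      _ = x := by rw [hdqd, hx, hp]; group
  have hdsd : d * s * d = q * x := by
    calc d * s * d = d * q * p * d := by rw [hs3]; group
      _ = d * q * (d * d) * p * d := by rw [hdd, mul_one]
      _ = d * q * d * (d * p * d) := by group
      _ = q * x := by rw [hdqd, hx]
  have hr' : r = p * x := by
    rw [hr3, hdsd, hs3]
    calc q * p * (q * x) = p * (q * q) * x := by rw [← hqp]; group
      _ = p * x := by rw [mul_self hD hq, mul_one]
  have hyry : y * r * y = q * x := by
    calc y * r * y = (y * y) * q * y * x * y := by rw [hr', hp]; group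
      _ = q * (y * x * y) := by rw [hyy]; group
      _ = q * x := by rw [hyxy]
  have hsq2 : (r * y) ^ 2 = (q * y) ^ 2 := by
    rw [← hs, pow_two, show r * y * (r * y) = r * (y * r * y) by group, hyry, hr', hs3]
    calc p * x * (q * x) = p * (x * q) * x := by group
      _ = p * q * (x * x) := by rw [hqx]; group
      _ = q * p := by
          rw [hqp, show x * x = 1 by
            rw [hx, show d * p * d * (d * p * d) = d * p * (d * d) * p * d by group, hdd, mul_one, hp,
              show d * (y * q * y) * (y * q * y) * d = d * y * q * (y * y) * q * y * d by group, hyy, mul_one,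
              show d * y * q * q * y * d = d * y * (q * q) * y * d by group, mul_self hD hq, mul_one,
              mul_assoc d y y, hyy, mul_one, hdd], mul_one]
  have hrq : r * q = q * r := by
    rw [hr]
    exact ((Commute.mul_left (show Commute s q from hsq) (show Commute d q from hqd.symm)).pow_left 2).eq
  have hreq : r = q :=
    descent_inj hD hrD hq hrq hrd hrdD hqd hqdD (oddAdj_symm hdy) hry hqy hsq2
  have hxs : x = s := by
    rw [hs3]
    have h1 : p * x = q := hr' ▸ hreq
    calc x = p⁻¹ * (p * x) := by group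
      _ = p * q := by rw [h1, hp, mul_inv_rev, mul_inv_rev, inv_eq hD hq, inv_eq hD hy]; group
      _ = q * p := hqp
  refine ⟨hdy, orderOf_mul_swap s d ▸ hsd, hr2.trans hreq, ?_, ?_⟩
  · rw [mul_inv_rev, inv_eq hD hd, inv_eq hD hy, ← hxs, hx, hp]; group
  · rw [mul_inv_rev, inv_eq hD hd, inv_eq hD hy]
    calc d * y * d * (y * d) = d * (y * d * y) * d := by group
      _ = (d * d) * y * (d * d) := by rw [hyd]; group
      _ = y := by rw [hdd, one_mul, mul_one]

variable [Finite G]

theorem Deep.congr_left (h : Ctx D) {d d' q : G} (hd : d ∈ D) (hd' : d' ∈ Cfsg.sameCommutingClass D d)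
    (hq : Deep D d q) : Deep D d' q :=
  ⟨hq.1.congr_left h.root hd', fun w hw =>
    (inE_congr hd').2 (hq.2 w (hw.congr_left h.root (class_symm hd hd')))⟩

theorem deep_of_class (h : Ctx D) {d e : G} (hd : d ∈ D) (he : e ∈ Cfsg.sameCommutingClass D d) : Deep D d e :=
  ⟨wd_of_class h.root hd he, fun w hw =>
    Or.inl (sq_of_commute h.root he.1 hw.1 (class_commute he hw.1 hw.2.1).symm)⟩

/-- A deep member outside the class has a mover, and all its multiples by `E(d)` are its conjugates. -/
theorem Deep.exists_mover' (h : Ctx D) {d q : G} (hd : d ∈ D) (hq : Deep D d q)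
    (hqE : q ∉ Cfsg.sameCommutingClass D d) {e : G} (he : InE D d e) :
    ∃ f, (f = 1 ∨ Wd D d f) ∧ (q * f) ^ 2 = e ∧ q * e ∈ D := by
  obtain ⟨z, hz, hzq⟩ : ∃ z ∈ Cfsg.productPartners D d, z * q ≠ q * z := by
    by_contra! hcon
    exact hqE (mem_class_of_central h.root h.conn hd hq.1 hcon)
  have hzW : Wd D d z := wd_of_product h.root hd hz.1.1 hz.1.2.1 hz.2
  obtain ⟨f, hf, hfe⟩ := exists_sq_eq h hd hq.1.1 hzW.1 hzq.symm
    (fun f hf => hq.2 f (hzW.congr_right h.root hd hf)) he
  rcases hf with rfl | hf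
  · refine ⟨1, Or.inl rfl, hfe, ?_⟩
    rw [← hfe, mul_one, pow_two, mul_self h.root hq.1.1, mul_one]
    exact hq.1.1
  · refine ⟨f, Or.inr (hzW.congr_right h.root hd hf), hfe, ?_⟩
    rw [← hfe, ← conj_eq h.root hq.1.1]
    exact conj_mem' h.root hq.1.1 hf.1

theorem Deep.full (h : Ctx D) {d q : G} (hd : d ∈ D) (hq : Deep D d q)
    (hqE : q ∉ Cfsg.sameCommutingClass D d) : Full D d q := fun _ he => (hq.exists_mover' h hd hqE he).choose_spec.2.2

/-- A deep pair is symmetric. -/
theorem Deep.symm (h : Ctx D) {d q : G} (hd : d ∈ D) (hq : Deep D d q)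
    (hqE : q ∉ Cfsg.sameCommutingClass D d) : Deep D q d ∧ d ∉ Cfsg.sameCommutingClass D q := by
  have hD := h.root
  have hne : d ∉ Cfsg.sameCommutingClass D q := fun e => hqE (class_symm hq.1.1 e)
  refine ⟨?_, hne⟩
  have hqdD : q * d ∈ D := hq.full h hd hqE d (inE_self hd)
  obtain ⟨z, hz, hzd, -⟩ := hq.exists_mover' h hd hqE (inE_self hd)
  have hzW : Wd D d z := hz.resolve_left fun e => by
    rw [e, mul_one, pow_two, mul_self hD hq.1.1] at hzd
    exact ne_one hD hd hzd.symm
  have hqd := hq.1.2.1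
  have hqX : q ∈ Cfsg.productPartners D d :=
    ⟨⟨hq.1.1, hqd, fun e => hqE (by rw [e]; exact class_self hd)⟩, hqdD⟩
  obtain ⟨y, ⟨hy, hqy⟩, h3⟩ := exists_order_three hD h.conn hd hqX hqE
  obtain ⟨-, hds, hdsq, -, -⟩ := triangle hD hd hq.1.1 hy hqd hqdD h3 hqy
  obtain ⟨s, hs⟩ : ∃ s, s = (q * y) ^ 2 := ⟨_, rfl⟩
  obtain ⟨hsD, -, -, hsq', -, -, -, -⟩ := four_facts hD hq.1.1 hy hqy hs.symm
  rw [← hs] at hds hdsq
  have e1 : z * d * z = d := by rw [hzW.2.1, mul_assoc, mul_self hD hzW.1, mul_one]
  have e2 : s * d * s = d * q := by rw [conj_eq hD hd, hdsq]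
  have e3 : z * q * z = q * d := by rw [conj_eq hD hq.1.1, hzd]
  have e4 : s * q * s = q := by rw [hsq', mul_assoc, mul_self hD hsD, mul_one]
  have hzz := mul_self hD hzW.1
  have hss := mul_self hD hsD
  have hg : (z * s * z)⁻¹ = z * s * z := by
    rw [mul_inv_rev, mul_inv_rev, inv_eq hD hzW.1, inv_eq hD hsD]; group
  have := hq.conj hD (z * s * z)
  rw [hg] at this
  have ed : z * s * z * d * (z * s * z) = q := by
    calc z * s * z * d * (z * s * z) = z * (s * (z * d * z) * s) * z := by group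
      _ = z * d * (z * z) * q * z := by rw [e1, e2, hzz]; group
      _ = z * d * z * (z * q * z) := by group
      _ = d * (q * d) := by rw [e1, e3]
      _ = q := by rw [hqd, ← mul_assoc, mul_self hD hd, one_mul]
  have eq' : z * s * z * q * (z * s * z) = d := by
    calc z * s * z * q * (z * s * z) = z * (s * (z * q * z) * s) * z := by group
      _ = z * (s * q * (s * s) * d * s) * z := by rw [e3, hss]; group
      _ = z * ((s * q * s) * (s * d * s)) * z := by group
      _ = z * (q * (d * q)) * z := by rw [e2, e4]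
      _ = d := by rw [← hqd, ← mul_assoc q q d, mul_self hD hq.1.1, one_mul, e1]
  rwa [ed, eq'] at this

/-- Members of the class of a deep member are deep. -/
theorem Deep.congr_right (h : Ctx D) {d q f : G} (hd : d ∈ D) (hq : Deep D d q)
    (hqE : q ∉ Cfsg.sameCommutingClass D d) (hf : f ∈ Cfsg.sameCommutingClass D q) :
    Deep D d f ∧ f ∉ Cfsg.sameCommutingClass D d := by
  obtain ⟨h1, h2⟩ := hq.symm h hd hqE
  have h3 : Deep D f d := h1.congr_left h hq.1.1 hf
  have h4 : d ∉ Cfsg.sameCommutingClass D f := fun e => h2 ⟨hd, hf.2.trans e.2⟩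
  exact h3.symm h hf.1 h4

/-- The product of two deep members is deep. -/
theorem Deep.mul (h : Ctx D) {d a b : G} (hd : d ∈ D) (ha : Deep D d a) (hb : Deep D d b)
    (hab : a * b = b * a) (hmem : a * b ∈ D) : Deep D d (a * b) := by
  have hD := h.root
  refine ⟨⟨hmem, (Commute.mul_left (show Commute a d from ha.1.2.1) (show Commute b d from hb.1.2.1)).eq,
    fun y hy hyd => ?_⟩, fun w hw => ?_⟩
  · have h1 : a * b * a = b := by rw [hab, mul_assoc, mul_self hD ha.1.1, mul_one]
    have h2 : a * b * a = a * (a * b) := by rw [mul_assoc, hab]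
    rcases oddAdj_partner_or_mul hD ha.1.1 h2 (by rw [h1]; exact hb.1.1) hy with e | e
    · exact ha.1.not_odd hyd (oddAdj_symm e)
    · rw [h1] at e
      exact hb.1.not_odd hyd (oddAdj_symm e)
  have ha2 := ha.2 w hw
  have hb2 := hb.2 w hw
  have hca : b * (a * w) ^ 2 = (a * w) ^ 2 * b := inE_commute ha2 hb.1.1 hb.1.2.1
  have key : w * (a * b) * w = a * b * ((a * w) ^ 2 * (b * w) ^ 2) := by
    calc w * (a * b) * w = w * a * (w * w) * b * w := by rw [mul_self hD hw.1]; group
      _ = (w * a * w) * (w * b * w) := by group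
      _ = a * ((a * w) ^ 2 * b) * (b * w) ^ 2 := by rw [conj_eq hD ha.1.1, conj_eq hD hb.1.1]; group
      _ = _ := by rw [← hca]; group
  have : (a * b * w) ^ 2 = (a * w) ^ 2 * (b * w) ^ 2 := by
    have h1 := conj_eq hD hmem w
    rw [key] at h1
    exact (mul_left_cancel h1).symm
  rw [this]
  exact mul_inE h hd ha2 hb2

end Cfsg.Agent.Fus.RootStr
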