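import Cfsg.Agent.Lib.Fus.RootStructure.ClassTwo
import Cfsg.Agent.Lib.Fus.RootClass.Basic

/-!
# The root structure theorem
-/

set_option autoImplicit false
set_option linter.unusedSectionVars false

namespace Cfsg.Agent.Fus.RootStr

open RootInv
open scoped commutatorElement

variable {G : Type*} [Group G] {D : Set G} [Finite G]

theorem wd_iff_isolated {d w : G} :
    Cfsg.IsIsolatedElem (Cfsg.OddAdj (Cfsg.commutingMembers D d)) (Cfsg.commutingMembers D d) w ↔ Wd D d w := by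
  constructor
  · intro hw
    exact ⟨hw.1.1, hw.1.2, fun y hy hyd => (hw.2 y).1 ⟨hw.1, ⟨hy.2.1, hyd⟩, hy.2.2⟩⟩
  · intro hw
    refine ⟨⟨hw.1, hw.2.1⟩, fun b => ⟨fun hb => ?_, fun hb => ?_⟩⟩
    · exact hw.2.2 b ⟨hw.1, hb.2.1.1, hb.2.2⟩ hb.2.1.2
    · exact hw.2.2 b (oddAdj_symm ⟨hb.1.1, hw.1, hb.2.2⟩) hb.1.2

/-- `W_d` is `X_d` together with `d`. -/
theorem wd_eq (h : Ctx D) {d : G} (hd : d ∈ D) : {w | Wd D d w} = Cfsg.productPartners D d ∪ {d} := by
  ext w
  constructor
  · intro hw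
    by_cases hwd : w = d
    · exact Or.inr hwd
    refine Or.inl ⟨⟨hw.1, hw.2.1, hwd⟩, ?_⟩
    by_cases hwE : w ∈ Cfsg.sameCommutingClass D d
    · rcases mul_inE h hd (Or.inr hwE) (inE_self hd) with e | e
      · exact absurd ((inv_eq h.root hw.1).symm.trans (inv_eq_of_mul_eq_one_right e)) hwd
      · exact e.1
    · exact (all_deep h hd hw).full h hd hwE d (inE_self hd)
  · rintro (hw | hw)
    · exact wd_of_product h.root hd hw.1.1 hw.1.2.1 hw.2
    · rw [show w = d from hw]; exact wd_self hd h.root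

/-- The commutator subgroup of `NW D d` lies in `E(d)`. -/
theorem commutator_mem (h : Ctx D) {d : G} (hd : d ∈ D) {a b : G} (ha : a ∈ NW D d) (hb : b ∈ NW D d) :
    InE D d (a * b * a⁻¹ * b⁻¹) := by
  have hD := h.root
  have hinv : ∀ {c : G}, InE D d c → InE D d c⁻¹ := fun {c} hc => by
    rwa [inv_eq_of_mul_eq_one_right (inE_sq hD hc)]
  have hcen : ∀ {c g : G}, InE D d c → g ∈ NW D d → g * c * g⁻¹ = c := fun {c g} hc hg => by
    rw [commute_NW hc hg, mul_inv_cancel_right]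
  induction ha using Subgroup.closure_induction generalizing b with
  | mem x hx =>
    induction hb using Subgroup.closure_induction with
    | mem y hy =>
      rw [inv_eq hD hx.1, inv_eq hD hy.1, show x * y * x * y = (x * y) ^ 2 by rw [pow_two]; group]
      exact (all_deep h hd hx).2 y hy
    | one => exact Or.inl (by group)
    | mul u v hu hv ihu ihv =>
      rw [show x * (u * v) * x⁻¹ * (u * v)⁻¹ = x * u * x⁻¹ * u⁻¹ * (u * (x * v * x⁻¹ * v⁻¹) * u⁻¹) by group,
        hcen ihv hu]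
      exact mul_inE h hd ihu ihv
    | inv u hu ih =>
      rw [show x * u⁻¹ * x⁻¹ * u⁻¹⁻¹ = u⁻¹ * (x * u * x⁻¹ * u⁻¹)⁻¹ * u⁻¹⁻¹ by group, hcen (hinv ih) (inv_mem hu)]
      exact hinv ih
  | one => exact Or.inl (by group)
  | mul u v hu hv ihu ihv =>
    rw [show u * v * b * (u * v)⁻¹ * b⁻¹ = u * (v * b * v⁻¹ * b⁻¹) * u⁻¹ * (u * b * u⁻¹ * b⁻¹) by group,
      hcen (ihv hb) hu]
    exact mul_inE h hd (ihv hb) (ihu hb)
  | inv u hu ih =>
    rw [show u⁻¹ * b * u⁻¹⁻¹ * b⁻¹ = u⁻¹ * (u * b * u⁻¹ * b⁻¹)⁻¹ * u⁻¹⁻¹ by group, hcen (hinv (ih hb)) (inv_mem hu)]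
    exact hinv (ih hb)

/-- The root structure theorem. -/
theorem root_structure (hD : Cfsg.IsNondegenerateRootInvolutionSet D) (hcl : Cfsg.IsRootInvolutionClass D)
    (hE : ∀ d ∈ D, (Cfsg.sameCommutingSubgroup D d : Set G) = Cfsg.sameCommutingClass D d ∪ {1}) {d : G}
    (hd : d ∈ D) :
    Subgroup.closure {w | Cfsg.IsIsolatedElem (Cfsg.OddAdj (Cfsg.commutingMembers D d)) (Cfsg.commutingMembers D d) w} =
      Subgroup.closure (Cfsg.productPartners D d ∪ {d}) ∧
    D ∩ (Subgroup.closure (Cfsg.productPartners D d ∪ {d}) : Set G) = Cfsg.productPartners D d ∪ {d} ∧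
    ⁅Subgroup.closure (Cfsg.productPartners D d ∪ {d}), Subgroup.closure (Cfsg.productPartners D d ∪ {d})⁆ =
      Cfsg.sameCommutingSubgroup D d ∧
    Cfsg.sameCommutingClass D d = {e | e ∈ D ∧ e ∈ Subgroup.closure (Cfsg.productPartners D d ∪ {d}) ∧
      ∀ y ∈ Subgroup.closure (Cfsg.productPartners D d ∪ {d}), e * y = y * e} := by
  have h : Ctx D := ⟨hcl.1, RootClass.odd_connected hcl hD, hE⟩
  have hW := wd_eq h hd
  have hN : Subgroup.closure (Cfsg.productPartners D d ∪ {d}) = NW D d := by rw [← hW]; rfl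
  have hEmem : ∀ {x : G}, x ∈ Cfsg.sameCommutingSubgroup D d ↔ InE D d x := fun {x} => by
    rw [← SetLike.mem_coe, hE d hd]
    exact or_comm
  refine ⟨?_, ?_, ?_, ?_⟩
  · rw [hN]
    exact congrArg Subgroup.closure (Set.ext fun w => wd_iff_isolated)
  · rw [hN, ← hW]
    exact Set.Subset.antisymm (fun w hw => (isPGroup_NW h.root d).2 w hw.1 hw.2) fun w hw => ⟨hw.1, mem_NW hw⟩
  · rw [hN]
    refine le_antisymm (Subgroup.commutator_le.2 fun a ha b hb => hEmem.2 ?_) ?_
    · rw [commutatorElement_def]; exact commutator_mem h hd ha hb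
    · rw [Cfsg.sameCommutingSubgroup, Subgroup.closure_le]
      intro e he
      obtain ⟨t, ht, hdt⟩ := RootClass.exists_four hcl hD hd
      obtain ⟨hqD, -, -, hqd, hqt, -, -, hmem⟩ := four_facts h.root hd ht hdt rfl
      have hqE : (d * t) ^ 2 ∉ Cfsg.sameCommutingClass D d := fun e' =>
        not_commute_of_four h.root hd ht hdt (commute_class e' ht hqt.symm).symm
      have hqW : Wd D d ((d * t) ^ 2) := wd_of_product h.root hd hqD hqd (hqd ▸ hmem)
      obtain ⟨f, hf, hfe, -⟩ := (all_deep h hd hqW).exists_mover' h hd hqE (Or.inr he)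
      rcases hf with rfl | hf
      · rw [mul_one, pow_two, mul_self h.root hqD] at hfe
        exact absurd hfe.symm (ne_one h.root he.1)
      · rw [SetLike.mem_coe]
        have := Subgroup.commutator_mem_commutator (mem_NW hqW) (mem_NW hf)
        rw [commutatorElement_def, inv_eq h.root hqD, inv_eq h.root hf.1] at this
        rwa [← hfe, pow_two, show (d * t) ^ 2 * f * ((d * t) ^ 2 * f) = (d * t) ^ 2 * f * (d * t) ^ 2 * f by group]
  · ext e
    constructor
    · intro he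
      refine ⟨he.1, hN ▸ mem_NW (wd_of_class h.root hd he), fun y hy => ?_⟩
      rw [hN] at hy
      exact (commute_NW (Or.inr he) hy).symm
    · rintro ⟨heD, heN, hcen⟩
      rw [hN] at heN hcen
      refine mem_class_of_central h.root h.conn hd ((isPGroup_NW h.root d).2 e heD heN) fun x hx => ?_
      exact (hcen x (mem_NW (wd_of_product h.root hd hx.1.1 hx.1.2.1 hx.2))).symm

end Cfsg.Agent.Fus.RootStr
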