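import Cfsg.Agent.Lib.Fus.RootStructure.Deep

/-!
# Root structure: deepness spreads along triangles

For a deep pair `(d, q)` and a product partner `b` of both, a multiple of `b` has a mover from `d` centralising `q`;
hence it is deep for `q`, and by symmetry for `d`.
-/

set_option autoImplicit false
set_option linter.unusedSectionVars false

namespace Cfsg.Agent.Fus.RootStr

open RootInv

variable {G : Type*} [Group G] {D : Set G} [Finite G]

theorem inE_mul_mem {d b e : G} (hb : Full D d b) (he : InE D d e) : b * e ∈ D := hb e he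

/-- Half of the propagation: some multiple of `b` by `E(d)` is deep for `q`. -/
theorem key (h : Ctx D) {d q b : G} (hd : d ∈ D) (hq : Deep D d q) (hqE : q ∉ Cfsg.sameCommutingClass D d)
    (hb : b ∈ D) (hbd : b * d = d * b) (hbq : b * q = q * b) (hfb : Full D d b) (hfbq : Full D d (b * q)) :
    ∃ e, InE D d e ∧ Deep D q (b * e) := by
  have hD := h.root
  have hqd := hq.1.2.1
  have hqdD : q * d ∈ D := hq.full h hd hqE d (inE_self hd)
  obtain ⟨hdq, hdE⟩ := hq.symm h hd hqE
  obtain ⟨y, ⟨hy, hqy⟩, h3⟩ := exists_order_three hD h.conn hd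
    ⟨⟨hq.1.1, hqd, fun e => hqE (by rw [e]; exact class_self hd)⟩, hqdD⟩ hqE
  obtain ⟨hdy, hds, hdsq, hgq, hgd⟩ := triangle hD hd hq.1.1 hy hqd hqdD h3 hqy
  obtain ⟨s, hs⟩ : ∃ s, s = (q * y) ^ 2 := ⟨_, rfl⟩
  obtain ⟨hsD, -, -, hsq, hsy, hsyD, hqs', hqsD⟩ := four_facts hD hq.1.1 hy hqy hs.symm
  rw [← hs] at hds hdsq hgq
  have hsy' : Deep D s y := by
    have := hdq.conj hD (d * y)
    rwa [hgq, hgd] at this
  have hWqs : Wd D q s := wd_of_product hD hq.1.1 hsD hsq (hsq ▸ hqsD)
  have hWsq : Wd D s q := wd_of_product hD hsD hq.1.1 hsq.symm hqsD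
  have hyy := mul_self hD hy
  have hss := mul_self hD hsD
  have hdd := mul_self hD hd
  have hdsd : d * s * d = q * s := by
    rw [conj_eq' hD hsD hd (fun e => not_odd_of_four hds (oddAdj_symm e)), hdsq, hsq]
  -- the square of `b * s`
  obtain ⟨ρ, hρ⟩ : ∃ ρ, ρ = (b * s) ^ 2 := ⟨_, rfl⟩
  have hbs_odd : ¬ Cfsg.OddAdj D b s := hWqs.not_odd' hbq
  have hsbs : s * b * s = b * ρ := by rw [hρ, conj_eq hD hb]
  have hsbsd : Commute (s * b * s) d := by
    have hcq : s * b * s * q = q * (s * b * s) := by
      calc s * b * s * q = s * b * (s * q) := by group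
        _ = s * (b * q) * s := by rw [hsq]; group
        _ = s * q * b * s := by rw [hbq]; group
        _ = q * (s * b * s) := by rw [hsq]; group
    show s * b * s * d = d * (s * b * s)
    calc s * b * s * d = d * (d * s * d * (d * b * d) * (d * s * d)) := by
          rw [show d * s * d * (d * b * d) * (d * s * d) = d * s * (d * d) * b * (d * d) * s * d by group,
            hdd, mul_one, mul_one, show d * (d * s * b * s * d) = d * d * (s * b * s * d) by group, hdd, one_mul]
      _ = d * (q * (s * b * s) * q) := by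
          rw [hdsd, show d * b * d = b by rw [← hbd, mul_assoc, hdd, mul_one]]
          conv_lhs => arg 2; arg 2; rw [← hsq]
          group
      _ = d * (s * b * s) := by rw [← hcq, mul_assoc _ q q, mul_self hD hq.1.1, mul_one]
  have hρd : Commute ρ d := by
    rw [show ρ = b * (s * b * s) by rw [hsbs, ← mul_assoc, mul_self hD hb, one_mul]]
    exact Commute.mul_left hbd hsbsd
  have hρq : Commute ρ q := by
    rw [hρ]; exact (Commute.mul_left (show Commute b q from hbq) (show Commute s q from hsq)).pow_left 2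
  have hρ' : ρ = 1 ∨ (ρ ∈ D ∧ ρ * s = s * ρ ∧ ρ * s ∈ D) := by
    rcases trichotomy hD hb hsD with e | e | e
    · exact Or.inl (hρ ▸ sq_of_commute hD hb hsD e)
    · exact absurd e hbs_odd
    · obtain ⟨a1, -, -, -, a5, a6, -, -⟩ := four_facts hD hb hsD e hρ.symm
      exact Or.inr ⟨a1, a5, a6⟩
  obtain ⟨τ, hτ⟩ : ∃ τ, τ = (y * ρ) ^ 2 := ⟨_, rfl⟩
  have hτE : InE D s τ ∧ y * ρ * y = ρ * τ := by
    rcases hρ' with e | ⟨hρD, hρs, hρsD⟩
    · have hτ1 : τ = 1 := by rw [hτ, e, mul_one, pow_two, hyy]
      rw [e, hτ1, mul_one, mul_one, hyy]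
      exact ⟨Or.inl rfl, rfl⟩
    · have hW := wd_of_product hD hsD hρD hρs hρsD
      exact ⟨hτ ▸ hsy'.2 ρ hW, hτ ▸ conj_eq' hD hρD hy (hW.pair_not_odd hsy'.1)⟩
  obtain ⟨hτE, hyρ⟩ := hτE
  -- the correcting element of `E(q)`
  obtain ⟨q', hq', hq'τ⟩ := exists_sq_eq h hsD hy hq.1.1
    (fun e => not_commute_of_four hD hq.1.1 hy hqy e.symm)
    (fun f hf => hsy'.2 f (hWsq.congr_right hD hsD hf)) hτE
  have hq'W : q' = 1 ∨ Wd D s q' := hq'.imp id fun hf => hWsq.congr_right hD hsD hf
  have hq's : q' * s = s * q' := hq'W.elim (fun e => by rw [e, one_mul, mul_one]) fun hw => hw.2.1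
  have hyq' : y * q' * y = q' * τ := by
    rcases hq'W with e | hw
    · rw [← hq'τ, e]; simp [pow_two, hyy]
    · rw [← hq'τ]; exact conj_eq' hD hw.1 hy (hw.pair_not_odd hsy'.1)
  -- the correcting element of `E(d)`
  obtain ⟨e, he, hes⟩ := exists_sq_eq h hq.1.1 hsD hd
    (fun e => not_commute_of_four hD hd hsD hds e.symm) (fun f hf => by
      have hfW : Wd D q f := hdq.1.congr_right hD hq.1.1 hf
      rw [sq_mul_swap hD hsD hf.1 (hWqs.pair_not_odd hfW)]
      exact (hdq.congr_right h hq.1.1 hdE hf).1.2 s hWqs) hq'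
  have hse : s * e * s = e * q' := by
    rcases he with e1 | e1
    · rw [← hes, e1]; simp [pow_two, hss]
    · rw [← hes]
      exact conj_eq' hD e1.1 hsD ((hdq.1.congr_right hD hq.1.1 e1).pair_not_odd hWqs)
  have hed : Commute d e := inE_commute_self hd he
  have heq' : q * e = e * q := inE_commute he hq.1.1 hqd
  have hbe : b * e = e * b := inE_commute he hb hbd
  obtain ⟨c, hc⟩ : ∃ c, c = b * e := ⟨_, rfl⟩
  have hcD : c ∈ D := hc ▸ hfb e he
  have hcd : c * d = d * c := by rw [hc]; exact Commute.mul_left hbd hed.symm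
  have hcq : c * q = q * c := by rw [hc]; exact Commute.mul_left hbq heq'.symm
  have hcdD : c * d ∈ D := by
    rw [hc, mul_assoc]; exact hfb _ (mul_inE h hd he (inE_self hd))
  have hcqdD : c * q * d ∈ D := by
    rw [hc, mul_assoc b e q, ← heq', ← mul_assoc b q e, mul_assoc (b * q) e d]
    exact hfbq _ (mul_inE h hd he (inE_self hd))
  -- `c` has a mover from `d`
  obtain ⟨σ, hσ⟩ : ∃ σ, σ = ρ * q' := ⟨_, rfl⟩
  have hρe : Commute ρ e := by
    rcases hρ' with e1 | ⟨hρD, -, -⟩
    · rw [e1]; exact Commute.one_left _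
    · exact inE_commute he hρD hρd.eq
  have hscs : s * c * s = c * σ := by
    calc s * c * s = s * b * (s * s) * e * s := by rw [hc, hss]; group
      _ = (s * b * s) * (s * e * s) := by group
      _ = b * (ρ * e) * q' := by rw [hsbs, hse]; group
      _ = b * e * (ρ * q') := by rw [hρe.eq]; group
      _ = c * σ := by rw [hc, hσ]
  have hσy : Commute σ y := by
    have hτq' : q' * τ = τ * q' := by
      rcases hq'W with e1 | hw
      · rw [e1, one_mul, mul_one]
      · exact inE_commute hτE hw.1 hw.2.1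
    have hys : y * σ * y = σ := by
      calc y * σ * y = y * ρ * (y * y) * q' * y := by rw [hσ, hyy]; group
        _ = (y * ρ * y) * (y * q' * y) := by group
        _ = ρ * (τ * q') * τ := by rw [hyρ, hyq']; group
        _ = ρ * q' * (τ * τ) := by rw [← hτq']; group
        _ = σ := by rw [inE_sq hD hτE, mul_one, hσ]
    show σ * y = y * σ
    calc σ * y = y * σ * y * y := by rw [hys]
      _ = y * σ := by rw [mul_assoc, hyy, mul_one]
  have hcs : ¬ Cfsg.OddAdj D c s := hWqs.not_odd' hcq
  have hσ_eq : σ = (c * s) ^ 2 := by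
    have h1 := hscs
    rw [conj_eq hD hcD] at h1
    exact (mul_left_cancel h1).symm
  have hcy : orderOf (c * y) = 4 := by
    rcases trichotomy hD hcD hy with e1 | e1 | e1
    · exact absurd hcdD (not_mem_mul_of_commute hD hcD e1 hcd.symm hdy)
    · exfalso
      rcases trichotomy hD hcD hsD with e2 | e2 | e2
      · exact hsy'.1.not_odd e2 (oddAdj_symm e1)
      · exact hcs e2
      · obtain ⟨a1, -, -, a4, -, -, -, a8⟩ := four_facts hD hcD hsD e2 hσ_eq.symm
        exact not_mem_mul_of_commute hD a1 hσy.eq a4.symm e1 (a4 ▸ a8)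
    · exact e1
  have hσc : Commute σ c := by
    rcases trichotomy hD hcD hsD with e2 | e2 | e2
    · rw [hσ_eq, sq_of_commute hD hcD hsD e2]; exact Commute.one_left _
    · exact absurd e2 hcs
    · exact (four_facts hD hcD hsD e2 hσ_eq.symm).2.2.2.1
  have hσd : Commute σ d := by
    rw [hσ]
    refine hρd.mul_left ?_
    rcases hq' with e1 | e1
    · rw [e1]; exact Commute.one_left _
    · exact ((class_commute e1 hd hqd.symm).symm : q' * d = d * q')
  have hσ2 : σ * σ = 1 := by
    rcases trichotomy hD hcD hsD with e2 | e2 | e2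
    · rw [hσ_eq, sq_of_commute hD hcD hsD e2, one_mul]
    · exact absurd e2 hcs
    · rw [hσ_eq]; exact mul_self hD (four_facts hD hcD hsD e2 rfl).1
  have hc1 : s * c * s = c := by
    refine descent_inj hD (conj_mem' hD hcD hsD) hcD (p := s * c * s) (s := d) (t := y) ?_ ?_ ?_ hcd hcdD
      (oddAdj_symm hdy) ?_ hcy ?_
    · rw [hscs, mul_assoc, hσc.eq]
    · rw [hscs]; exact (Commute.mul_left hcd hσd).eq
    · have h1 := conj_mem' hD hcqdD hsD
      rwa [show s * (c * q * d) * s = s * c * s * d by
        calc s * (c * q * d) * s = s * c * (s * s) * q * (s * s) * d * s := by rw [hss]; group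
          _ = (s * c * s) * ((s * q * s) * (s * d * s)) := by group
          _ = s * c * s * d := by
            rw [show s * q * s = q by rw [hsq, mul_assoc, hss, mul_one], conj_eq hD hd, hdsq, ← hqd, ← mul_assoc q q d,
              mul_self hD hq.1.1, one_mul]] at h1
    · rw [show s * c * s * y = s * (c * y) * s⁻¹ by
        rw [inv_eq hD hsD, mul_assoc (s * c) s y, hsy]; group, orderOf_conj]
      exact hcy
    · rw [hscs, mul_assoc, hσy.eq, ← mul_assoc, (Commute.mul_left hσc.symm hσy.symm).mul_pow, pow_two σ, hσ2,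
        mul_one]
  obtain ⟨v, hv⟩ : ∃ v, v = (c * y) ^ 2 := ⟨_, rfl⟩
  obtain ⟨hvD, -, -, hvc, hvy, -, -, hcvD⟩ := four_facts hD hcD hy hcy hv.symm
  obtain ⟨-, hdv, hdvc, -, -⟩ := triangle hD hd hcD hy hcd hcdD h3 hcy
  rw [← hv] at hdv hdvc
  have hvv := mul_self hD hvD
  have hsc : s * c = c * s := by
    calc s * c = s * c * s * s := by rw [mul_assoc (s * c), hss, mul_one]
      _ = c * s := by rw [hc1]
  have hvs : Commute v s := by
    rw [hv]
    exact (Commute.mul_left (show Commute c s from hsc.symm) (show Commute y s from hsy.symm)).pow_left 2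
  have hqv_odd : ¬ Cfsg.OddAdj D q v :=
    (wd_of_product hD hcD hvD hvc (hvc ▸ hcvD)).not_odd' hcq.symm
  have hdvd : d * v * d = v * c := by
    rw [conj_eq' hD hvD hd (fun e => not_odd_of_four hdv (oddAdj_symm e)), hdvc]
  have hvdv : v * d * v = d * c := by rw [conj_eq hD hd, hdvc]
  have hvqv_y : v * q * v * y = v * (q * y) * v := by rw [mul_assoc (v * q) v y, hvy]; group
  have hvqv : v * q * v = q := by
    refine descent_inj hD (conj_mem' hD hq.1.1 hvD) hq.1.1 (p := v * q * v) (s := d) (t := y) ?_ ?_ ?_ hqd hqdD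
      (oddAdj_symm hdy) ?_ hqy ?_
    · rw [conj_eq hD hq.1.1]
      refine (Commute.mul_left (Commute.refl q) ?_).eq
      rcases trichotomy hD hq.1.1 hvD with e2 | e2 | e2
      · rw [sq_of_commute hD hq.1.1 hvD e2]; exact Commute.one_left _
      · exact absurd e2 hqv_odd
      · exact (four_facts hD hq.1.1 hvD e2 rfl).2.2.2.1
    · calc v * q * v * d = d * (d * v * d * (d * q * d) * (d * v * d)) := by
            rw [show d * v * d * (d * q * d) * (d * v * d) = d * v * (d * d) * q * (d * d) * v * d by group,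
              hdd, mul_one, mul_one, show d * (d * v * q * v * d) = d * d * (v * q * v * d) by group, hdd, one_mul]
        _ = d * (v * (c * q * c) * v) := by
            rw [hdvd, show d * q * d = q by rw [← hqd, mul_assoc, hdd, mul_one]]
            conv_lhs => arg 2; arg 2; rw [hvc]
            group
        _ = d * (v * q * v) := by rw [hcq, mul_assoc q c c, mul_self hD hcD, mul_one]
    · have h1 := conj_mem' hD hcqdD hvD
      rwa [show v * (c * q * d) * v = v * q * v * d by
        calc v * (c * q * d) * v = v * (q * c * d) * v := by rw [hcq]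
          _ = v * q * (v * v) * c * (v * v) * d * v := by rw [hvv]; group
          _ = (v * q * v) * ((v * c * v) * (v * d * v)) := by group
          _ = v * q * v * d := by
            rw [show v * c * v = c by rw [hvc, mul_assoc, hvv, mul_one], hvdv, ← hcd, ← mul_assoc c c d,
              mul_self hD hcD, one_mul]] at h1
    · rw [hvqv_y, show v * (q * y) * v = v * (q * y) * v⁻¹ by rw [inv_eq hD hvD], orderOf_conj]
      exact hqy
    · rw [hvqv_y, show v * (q * y) * v = v * (q * y) * v⁻¹ by rw [inv_eq hD hvD], conj_pow, ← hs, hvs.eq,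
        mul_inv_cancel_right]
  have hconj := hdq.conj hD v
  rw [inv_eq hD hvD, hvqv, hvdv] at hconj
  refine ⟨e, he, ?_⟩
  have hdc : d * (d * c) = c := by rw [← mul_assoc, hdd, one_mul]
  have := Deep.mul h hq.1.1 hdq hconj (by rw [hdc, mul_assoc, hcd, hdc]) (by rw [hdc]; exact hcD)
  rwa [hdc, hc] at this

/-- Deepness spreads to a product partner with all multiples in the class. -/
theorem Deep.propagate (h : Ctx D) {d q b : G} (hd : d ∈ D) (hq : Deep D d q)
    (hqE : q ∉ Cfsg.sameCommutingClass D d) (hb : b ∈ D) (hbd : b * d = d * b) (hbq : b * q = q * b)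
    (hfb : Full D d b) (hfbq : Full D d (b * q)) : Deep D d b := by
  have hD := h.root
  obtain ⟨hdq, hdE⟩ := hq.symm h hd hqE
  obtain ⟨e, he, hu⟩ := key h hd hq hqE hb hbd hbq hfb hfbq
  obtain ⟨u, rfl⟩ : ∃ u, b = u * e := ⟨b * e, by rw [mul_assoc, inE_sq hD he, mul_one]⟩
  rw [mul_assoc, inE_sq hD he, mul_one] at hu
  have huD : u ∈ D := hu.1.1
  have huq := hu.1.2.1
  have hed : Commute e d := (inE_commute_self hd he).symm
  have hud : u * d = d * u := by
    have : Commute (u * e * e) d := Commute.mul_left hbd hed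
    rwa [mul_assoc, inE_sq hD he, mul_one] at this
  suffices hdu : Deep D d u by
    rcases he with e1 | e1
    · rwa [e1, mul_one]
    · exact hdu.mul h hd (deep_of_class h hd e1) (inE_commute (Or.inr e1) huD hud) hb
  have hudD : u * d ∈ D := by
    have := hfb _ (mul_inE h hd he (inE_self hd))
    rwa [← mul_assoc, mul_assoc u e e, inE_sq hD he, mul_one] at this
  by_cases h1 : u ∈ Cfsg.sameCommutingClass D q
  · exact (hq.congr_right h hd hqE h1).1
  have hudq : Deep D q (u * d) := hu.mul h hq.1.1 hdq hud hudD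
  by_cases h2 : u * d ∈ Cfsg.sameCommutingClass D q
  · have h3 := (hq.congr_right h hd hqE h2).1
    have h4 : u * d * d = u := by rw [mul_assoc, mul_self hD hd, mul_one]
    have := h3.mul h hd (deep_of_class h hd (class_self hd)) (by
      rw [h4, hud, ← mul_assoc, mul_self hD hd, one_mul]) (h4.symm ▸ huD)
    rwa [h4] at this
  obtain ⟨e', he', hu'⟩ := key h hq.1.1 hdq hdE huD huq hud (hu.full h hq.1.1 h1) (hudq.full h hq.1.1 h2)
  rcases he' with e1 | e1
  · rwa [e1, mul_one] at hu'
  · have h4 : u * e' * e' = u := by rw [mul_assoc, mul_self hD e1.1, mul_one]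
    have hue : u * e' = e' * u := class_commute e1 huD huq
    have := hu'.mul h hd (hq.congr_right h hd hqE e1).1
      (by rw [h4, hue, ← mul_assoc, mul_self hD e1.1, one_mul]) (h4.symm ▸ huD)
    rwa [h4] at this

end Cfsg.Agent.Fus.RootStr
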